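import Groth.Agent.ResExt.Tower
import Groth.Agent.RegLocal.Complete

set_option autoImplicit false
universe u

namespace Groth.Agent.ResExt

open IsLocalRing

theorem completion_lemmas {R : Type u} [CommRing R] (J : Ideal R) (hJ : J.FG) (n : ℕ) :
    (∀ c : AdicCompletion J R, ∃ r, c - algebraMap R (AdicCompletion J R) r ∈
      (J.map (algebraMap R (AdicCompletion J R))) ^ n) ∧
    (∀ r : R, algebraMap R (AdicCompletion J R) r ∈ (J.map (algebraMap R (AdicCompletion J R))) ^ n →
      r ∈ J ^ n) := by
  constructor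
  · intro c
    obtain ⟨r, hr⟩ := Submodule.mkQ_surjective _ (AdicCompletion.eval J R n c)
    refine ⟨r, ?_⟩
    have h : c - AdicCompletion.of J R r ∈ (AdicCompletion.eval J R n).ker := by
      rw [LinearMap.mem_ker, map_sub, AdicCompletion.eval_of, ← hr]
      exact sub_self _
    rw [← AdicCompletion.pow_smul_top_eq_ker_eval (I := J) hJ, Ideal.smul_top_eq_map,
      Submodule.restrictScalars_mem, Ideal.map_pow] at h
    simpa [AdicCompletion.algebraMap_apply] using h
  · intro r hr
    rw [← Ideal.map_pow] at hr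
    have hle : (J ^ n).map (algebraMap R (AdicCompletion J R)) ≤
        RingHom.ker (AdicCompletion.evalₐ J n).toRingHom := by
      rw [Ideal.map_le_iff_le_comap]
      intro j hj
      rw [Ideal.mem_comap, RingHom.mem_ker, AlgHom.toRingHom_eq_coe, RingHom.coe_coe,
        AlgHom.commutes]
      exact Ideal.Quotient.eq_zero_iff_mem.mpr hj
    have h := hle hr
    rw [RingHom.mem_ker, AlgHom.toRingHom_eq_coe, RingHom.coe_coe, AlgHom.commutes] at h
    exact Ideal.Quotient.eq_zero_iff_mem.mp h

theorem main_of_flat {A R K : Type u} [CommRing A] [IsNoetherianRing A] [IsLocalRing A] [Field K]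
    [CommRing R] [Algebra A R] [Algebra A K] [Module.Flat A R] (ψ : R →ₐ[A] K)
    (hψ : Function.Surjective ψ) (hker : RingHom.ker ψ = (maximalIdeal A).map (algebraMap A R)) :
    ∃ (B : Type u) (_ : CommRing B) (_ : Algebra A B), IsNoetherianRing B ∧ IsLocalRing B ∧
      IsLocalHom (algebraMap A B) ∧ Module.Flat A B ∧
      IsAdicComplete ((maximalIdeal A).map (algebraMap A B)) B ∧
      ∃ e : (B ⧸ (maximalIdeal A).map (algebraMap A B)) ≃+* K,
        ∀ a : A, e (Ideal.Quotient.mk _ (algebraMap A B a)) = algebraMap A K a := by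
  let J : Ideal R := (maximalIdeal A).map (algebraMap A R)
  have hJ : J.FG := (maximalIdeal A).fg_of_isNoetherianRing.map _
  have hqK : ∃ f : (R ⧸ J) ≃+* K, ∀ r, f (Ideal.Quotient.mk J r) = ψ r :=
    ⟨(Ideal.quotEquivOfEq hker.symm).trans (RingHom.quotientKerEquivOfSurjective hψ), fun r => rfl⟩
  obtain ⟨f, hf⟩ := hqK
  have : IsNoetherianRing (R ⧸ J) := isNoetherianRing_of_ringEquiv K f.symm
  let C := AdicCompletion J R
  have : IsNoetherianRing C := RegLocal.isNoetherianRing_adicCompletion J hJ
  let g : C →+* K := f.toRingHom.comp (AdicCompletion.evalOneₐ J).toRingHom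
  have hg : Function.Surjective g := f.surjective.comp (AdicCompletion.evalOneₐ_surjective J)
  have hmap : (maximalIdeal A).map (algebraMap A C) = J.map (algebraMap R C) := by
    rw [Ideal.map_map, ← IsScalarTower.algebraMap_eq]
  have hgker : RingHom.ker g = (maximalIdeal A).map (algebraMap A C) := by
    rw [hmap, ← AdicCompletion.ker_evalOneₐ_eq_map J hJ]
    exact RingHom.ker_equiv_comp _ f
  have hmax : (J.map (algebraMap R C)).IsMaximal := by
    rw [← hmap, ← hgker]
    exact RingHom.ker_isMaximal_of_surjective g hg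
  have : IsAdicComplete (J.map (algebraMap R C)) C := AdicCompletion.isAdicComplete_self J hJ
  have : IsLocalRing C := _root_.isLocalRing_of_isAdicComplete_maximal (J.map (algebraMap R C))
  have heq : (maximalIdeal A).map (algebraMap A C) = maximalIdeal C :=
    hmap.trans (IsLocalRing.eq_maximalIdeal hmax)
  refine ⟨C, inferInstance, inferInstance, inferInstance, inferInstance, ⟨fun a ha => ?_⟩, ?_,
    hmap ▸ inferInstance,
    ((Ideal.quotEquivOfEq hgker.symm).trans (RingHom.quotientKerEquivOfSurjective hg)),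
    fun a => ?_⟩
  · by_contra hne
    have : algebraMap A C a ∈ maximalIdeal C :=
      heq ▸ Ideal.mem_map_of_mem _ ((mem_maximalIdeal a).mpr hne)
    exact (mem_maximalIdeal _).mp this ha
  · refine flat_of_forall_quotient (maximalIdeal A) ?_ (IsScalarTower.toAlgHom A R C) ?_ ?_
    · rw [heq, IsLocalRing.jacobson_eq_maximalIdeal ⊥ bot_ne_top]
    · intro n c
      obtain ⟨r, hr⟩ := (completion_lemmas J hJ n).1 c
      exact ⟨r, by rw [hmap]; exact hr⟩
    · intro n r hr
      rw [hmap] at hr
      exact (completion_lemmas J hJ n).2 r hr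
  · change f (AdicCompletion.evalOneₐ J (algebraMap A C a)) = algebraMap A K a
    rw [IsScalarTower.algebraMap_apply A R C, AlgHom.commutes]
    exact (hf _).trans (ψ.commutes a)

theorem exists_purelyTranscendental_stage {A : Type u} [CommRing A] [IsLocalRing A] (K : Type u)
    [Field K] [Algebra (ResidueField A) K] :
    ∃ (A₁ : Type u) (_ : CommRing A₁) (_ : IsLocalRing A₁) (_ : Algebra A A₁) (φ : A₁ →+* K),
      Module.Flat A A₁ ∧ maximalIdeal A₁ = (maximalIdeal A).map (algebraMap A A₁) ∧
      φ.comp (algebraMap A A₁) = (algebraMap (ResidueField A) K).comp (residue A) ∧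
      RingHom.ker φ = maximalIdeal A₁ ∧ φ.IsIntegral := by
  classical
  obtain ⟨ι, t, ht⟩ := exists_isTranscendenceBasis' (ResidueField A) K
  let χ : MvPolynomial ι A →+* K :=
    (MvPolynomial.aeval t).toRingHom.comp (MvPolynomial.map (residue A))
  let Q := RingHom.ker χ
  have : Q.IsPrime := RingHom.ker_isPrime χ
  have hQ : Q = (maximalIdeal A).map MvPolynomial.C := by
    have h1 : Q = RingHom.ker (MvPolynomial.map (σ := ι) (residue A)) := by
      refine RingHom.ker_comp_of_injective _ ?_
      exact ht.1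
    rw [h1, MvPolynomial.ker_map, ker_residue]
  have hu : ∀ y : Q.primeCompl, IsUnit (χ y) := fun y => isUnit_iff_ne_zero.mpr y.2
  let φ : Localization.AtPrime Q →+* K := IsLocalization.lift hu
  have hmax : maximalIdeal (Localization.AtPrime Q) =
      (maximalIdeal A).map (algebraMap A (Localization.AtPrime Q)) := by
    rw [← Localization.AtPrime.map_eq_maximalIdeal]
    refine (congrArg (Ideal.map (algebraMap (MvPolynomial ι A) (Localization.AtPrime Q))) hQ).trans ?_
    rw [Ideal.map_map, ← MvPolynomial.algebraMap_eq, ← IsScalarTower.algebraMap_eq]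
  refine ⟨Localization.AtPrime Q, inferInstance, inferInstance, inferInstance, φ, ?_, hmax, ?_, ?_, ?_⟩
  · have : Module.Flat (MvPolynomial ι A) (Localization.AtPrime Q) :=
      IsLocalization.flat _ Q.primeCompl
    exact Module.Flat.trans A (MvPolynomial ι A) _
  · ext a
    rw [RingHom.comp_apply, IsScalarTower.algebraMap_apply A (MvPolynomial ι A) (Localization.AtPrime Q),
      IsLocalization.lift_eq]
    simp [χ]
  · refine ((IsLocalRing.maximalIdeal.isMaximal _).eq_of_le (RingHom.ker_ne_top φ) ?_).symm
    rw [← Localization.AtPrime.map_eq_maximalIdeal, Ideal.map_le_iff_le_comap]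
    intro x hx
    rw [Ideal.mem_comap, RingHom.mem_ker, IsLocalization.lift_eq]
    exact hx
  · intro x
    obtain ⟨p, hp0, hpx⟩ := ht.isAlgebraic.isAlgebraic x
    have hlift : ∀ c : Algebra.adjoin (ResidueField A) (Set.range t), ∃ d, χ d = (c : K) := by
      rintro ⟨c, hc⟩
      rw [Algebra.adjoin_range_eq_range_aeval] at hc
      obtain ⟨cb, rfl⟩ := hc
      obtain ⟨d, rfl⟩ := MvPolynomial.map_surjective _ IsLocalRing.residue_surjective cb
      exact ⟨d, rfl⟩
    choose d hd using fun i => hlift (p.coeff i)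
    let n := p.natDegree
    have hdn : IsUnit (algebraMap _ (Localization.AtPrime Q) (d n)) := by
      refine IsLocalization.map_units _ (⟨d n, ?_⟩ : Q.primeCompl)
      change χ (d n) ≠ 0
      rw [hd]
      exact fun h => hp0 (Polynomial.leadingCoeff_eq_zero.mp (Subtype.ext h))
    obtain ⟨v, hv⟩ := hdn
    let q : Polynomial (Localization.AtPrime Q) := Polynomial.X ^ n +
      ∑ i ∈ Finset.range n, Polynomial.monomial i ((v⁻¹ : _ˣ).val * algebraMap _ _ (d i))
    refine ⟨q, Polynomial.monic_X_pow_add ?_, ?_⟩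
    · rw [Polynomial.degree_lt_iff_coeff_zero]
      intro m hm
      simp only [Polynomial.finsetSum_coeff, Polynomial.coeff_monomial]
      refine Finset.sum_eq_zero fun k hk => if_neg ?_
      rw [Finset.mem_range] at hk
      omega
    · have hx0 : ∑ i ∈ Finset.range n, χ (d i) * x ^ i + χ (d n) * x ^ n = 0 := by
        rw [← hpx, Polynomial.aeval_eq_sum_range, Finset.sum_range_succ]
        simp only [hd, Algebra.smul_def]
        rfl
      simp only [q, Polynomial.eval₂_add, Polynomial.eval₂_X_pow, Polynomial.eval₂_finsetSum,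
        Polynomial.eval₂_monomial, map_mul, φ, IsLocalization.lift_eq, mul_assoc]
      rw [← Finset.mul_sum]
      have hn0 : χ (d n) ≠ 0 := by
        rw [← IsLocalization.lift_eq (S := Localization.AtPrime Q) hu, ← hv]
        exact (v.isUnit.map _).ne_zero
      have hvi : IsLocalization.lift hu (v⁻¹ : (Localization.AtPrime Q)ˣ).val * χ (d n) = 1 := by
        rw [← IsLocalization.lift_eq (S := Localization.AtPrime Q) hu, ← hv, ← map_mul,
          Units.inv_mul, map_one]
      linear_combination (IsLocalization.lift hu (v⁻¹ : (Localization.AtPrime Q)ˣ).val) * hx0 -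
        x ^ n * hvi

theorem main_complete {A : Type u} [CommRing A] [IsNoetherianRing A] [IsLocalRing A] (K : Type u) [Field K]
    [Algebra (ResidueField A) K] :
    ∃ (B : Type u) (_ : CommRing B) (_ : Algebra A B), IsNoetherianRing B ∧ IsLocalRing B ∧
      IsLocalHom (algebraMap A B) ∧ Module.Flat A B ∧
      IsAdicComplete ((maximalIdeal A).map (algebraMap A B)) B ∧
      ∃ e : (B ⧸ (maximalIdeal A).map (algebraMap A B)) ≃+* K,
        ∀ a : A, e (Ideal.Quotient.mk _ (algebraMap A B a)) =
          algebraMap (ResidueField A) K (residue A a) := by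
  obtain ⟨A₁, _, _, _, φ, hflat, hmax, hcomp, hker, hint⟩ := exists_purelyTranscendental_stage (A := A) K
  let _ : Algebra A₁ K := φ.toAlgebra
  have : Algebra.IsIntegral A₁ K := ⟨hint⟩
  obtain ⟨_, _⟩ := exists_wellFoundedLT (α := K)
  obtain ⟨R, _, _, hR, ψ, hψ, hψker⟩ := exists_flat_surjective (A := A₁) (K := K) hker
  let _ : Algebra A K := (φ.comp (algebraMap A A₁)).toAlgebra
  let _ : Algebra A R := ((algebraMap A₁ R).comp (algebraMap A A₁)).toAlgebra
  have : IsScalarTower A A₁ R := .of_algebraMap_eq' rfl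
  have : IsScalarTower A A₁ K := .of_algebraMap_eq' rfl
  have : Module.Flat A R := Module.Flat.trans A A₁ R
  obtain ⟨B, _, _, h1, h2, h3, h4, h5, e, he⟩ := main_of_flat (A := A) (ψ.restrictScalars A) hψ (by
    rw [show algebraMap A R = (algebraMap A₁ R).comp (algebraMap A A₁) from rfl, ← Ideal.map_map,
      ← hmax]
    exact hψker)
  exact ⟨B, inferInstance, inferInstance, h1, h2, h3, h4, h5, e, fun a => (he a).trans (RingHom.congr_fun hcomp a)⟩

theorem main {A : Type u} [CommRing A] [IsNoetherianRing A] [IsLocalRing A] (K : Type u) [Field K]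
    [Algebra (ResidueField A) K] :
    ∃ (B : Type u) (_ : CommRing B) (_ : Algebra A B), IsNoetherianRing B ∧ IsLocalRing B ∧
      IsLocalHom (algebraMap A B) ∧ Module.Flat A B ∧
      ∃ e : (B ⧸ (maximalIdeal A).map (algebraMap A B)) ≃+* K,
        ∀ a : A, e (Ideal.Quotient.mk _ (algebraMap A B a)) =
          algebraMap (ResidueField A) K (residue A a) := by
  obtain ⟨B, _, _, h1, h2, h3, h4, -, h⟩ := main_complete (A := A) K
  exact ⟨B, inferInstance, inferInstance, h1, h2, h3, h4, h⟩

end Groth.Agent.ResExt
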