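import Mathlib

/-! Flatness lemmas used for extending residue fields. -/

set_option autoImplicit false
universe u

namespace Groth.Agent.ResExt

open TensorProduct

/-- A quotient of a flat module by a pure submodule is flat. -/
theorem flat_quotient_of_forall {A M : Type u} [CommRing A] [AddCommGroup M] [Module A M]
    [Module.Flat A M] (N : Submodule A M)
    (h : ∀ q : Ideal A, q • (⊤ : Submodule A M) ⊓ N ≤ q • N) : Module.Flat A (M ⧸ N) := by
  rw [Module.Flat.iff_lTensor_injective']
  intro q
  rw [injective_iff_map_eq_zero]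
  intro t ht
  obtain ⟨s, rfl⟩ := LinearMap.rTensor_surjective q N.mkQ_surjective t
  let μ : M ⊗[A] q →ₗ[A] M := (TensorProduct.rid A M).toLinearMap ∘ₗ q.subtype.lTensor M
  have hμinj : Function.Injective μ := (TensorProduct.rid A M).injective.comp
    (Module.Flat.lTensor_preserves_injective_linearMap q.subtype q.injective_subtype)
  have hnat : ∀ x : M ⊗[A] q, N.mkQ (μ x) =
      TensorProduct.rid A (M ⧸ N) (q.subtype.lTensor (M ⧸ N) (N.mkQ.rTensor q x)) := by
    intro x
    induction x using TensorProduct.induction_on with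
    | zero => simp
    | tmul m a => simp [μ]
    | add x y hx hy => simp only [map_add, hx, hy]
  have hN : μ s ∈ N := by
    rw [← Submodule.Quotient.mk_eq_zero, ← Submodule.mkQ_apply, hnat, ht, map_zero]
  have hq : μ s ∈ q • (⊤ : Submodule A M) := by
    clear ht hN
    induction s using TensorProduct.induction_on with
    | zero => simp
    | tmul m a => simpa [μ] using Submodule.smul_mem_smul a.2 (Submodule.mem_top (x := m))
    | add x y hx hy => rw [map_add]; exact add_mem hx hy
  have hmem : μ s ∈ Submodule.map μ (LinearMap.range (N.subtype.rTensor q)) := by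
    refine (Submodule.smul_le.mpr fun a ha x hx => ?_) (h q ⟨hq, hN⟩)
    exact ⟨x ⊗ₜ ⟨a, ha⟩, ⟨⟨x, hx⟩ ⊗ₜ ⟨a, ha⟩, rfl⟩, by simp [μ]⟩
  obtain ⟨_, ⟨w, rfl⟩, hw⟩ := hmem
  rw [← hμinj hw, ← LinearMap.rTensor_comp_apply]
  have h0 : N.mkQ ∘ₗ N.subtype = 0 := LinearMap.ext fun x => (Submodule.Quotient.mk_eq_zero N).mpr x.2
  rw [h0, LinearMap.rTensor_zero, LinearMap.zero_apply]

/-- Local criterion of flatness, for a ring `C` which agrees with a flat algebra `R` modulo all
powers of `m`. -/
theorem flat_of_forall_quotient {A R C : Type u} [CommRing A] [IsNoetherianRing A] [CommRing R]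
    [CommRing C] [IsNoetherianRing C] [Algebra A R] [Algebra A C] [Module.Flat A R] (m : Ideal A)
    (hjac : m.map (algebraMap A C) ≤ Ideal.jacobson ⊥) (φ : R →ₐ[A] C)
    (hsurj : ∀ (n : ℕ) (c : C), ∃ r, c - φ r ∈ (m.map (algebraMap A C)) ^ n)
    (hker : ∀ (n : ℕ) (r : R), φ r ∈ (m.map (algebraMap A C)) ^ n → r ∈ (m.map (algebraMap A R)) ^ n) :
    Module.Flat A C := by
  rw [Module.Flat.iff_lTensor_injective']
  intro q
  rw [injective_iff_map_eq_zero]
  intro t ht
  obtain ⟨k, hk⟩ := Ideal.exists_pow_inf_eq_pow_smul m (q : Submodule A A)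
  suffices H : ∀ n, k ≤ n → t ∈ (m.map (algebraMap A C)) ^ (n - k) • (⊤ : Submodule C (C ⊗[A] q)) by
    have hb := Ideal.iInf_pow_smul_eq_bot_of_le_jacobson (M := C ⊗[A] q)
      (m.map (algebraMap A C)) hjac
    rw [← Submodule.mem_bot C, ← hb, Submodule.mem_iInf]
    exact fun i => by simpa using H (i + k) (Nat.le_add_left k i)
  intro n hkn
  let p : q →ₗ[A] A ⧸ (m ^ n : Ideal A) := (Submodule.mkQ _).comp q.subtype
  let π : q →ₗ[A] LinearMap.range p := p.rangeRestrict
  have hπ : Function.Surjective π := p.surjective_rangeRestrict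
  have hex : Function.Exact (LinearMap.ker π).subtype π := LinearMap.exact_subtype_ker_map π
  have hzero : π.lTensor C t = 0 := by
    -- `φ` identifies the two reductions
    have hs : ∀ x : C ⊗[A] LinearMap.range p, ∃ y : R ⊗[A] LinearMap.range p,
        φ.toLinearMap.rTensor _ y = x := by
      intro x
      induction x using TensorProduct.induction_on with
      | zero => exact ⟨0, map_zero _⟩
      | tmul c v =>
        obtain ⟨r, hr⟩ := hsurj n c
        refine ⟨r ⊗ₜ v, ?_⟩
        have h0 : ∀ c' ∈ ((m ^ n : Ideal A) • ⊤ : Submodule A C), c' ⊗ₜ[A] v = 0 := by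
          intro c' hc'
          induction hc' using Submodule.smul_induction_on' with
          | smul a ha x _ =>
            rw [TensorProduct.smul_tmul]
            have : a • v = 0 := by
              obtain ⟨w, hw⟩ := Submodule.mkQ_surjective _ v.1
              refine Subtype.ext ?_
              rw [Submodule.coe_smul, ← hw, ← map_smul, ZeroMemClass.coe_zero]
              exact (Submodule.Quotient.mk_eq_zero _).mpr (Ideal.mul_mem_right _ _ ha)
            rw [this, TensorProduct.tmul_zero]
          | add x _ y _ hx hy => rw [TensorProduct.add_tmul, hx, hy, add_zero]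
        have hc : c - φ r ∈ ((m ^ n : Ideal A) • ⊤ : Submodule A C) := by
          rwa [Ideal.smul_top_eq_map, Submodule.restrictScalars_mem, Ideal.map_pow]
        have := h0 _ hc
        rw [TensorProduct.sub_tmul, sub_eq_zero] at this
        simp [this]
      | add x y hx hy =>
        obtain ⟨a, rfl⟩ := hx
        obtain ⟨b, rfl⟩ := hy
        exact ⟨a + b, map_add _ _ _⟩
    obtain ⟨y, hy⟩ := hs (π.lTensor C t)
    suffices y = 0 by rw [← hy, this, map_zero]
    apply Module.Flat.lTensor_preserves_injective_linearMap (LinearMap.range p).subtype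
      (Submodule.injective_subtype _)
    rw [map_zero]
    obtain ⟨r, hr⟩ : ∃ r : R, r ⊗ₜ[A] (Submodule.mkQ (m ^ n : Ideal A) 1) =
        (LinearMap.range p).subtype.lTensor R y := by
      generalize (LinearMap.range p).subtype.lTensor R y = z
      induction z using TensorProduct.induction_on with
      | zero => exact ⟨0, TensorProduct.zero_tmul _ _⟩
      | tmul r a =>
        obtain ⟨a, rfl⟩ := Submodule.mkQ_surjective _ a
        refine ⟨a • r, ?_⟩
        rw [TensorProduct.smul_tmul, ← map_smul, smul_eq_mul, mul_one]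
      | add x y hx hy =>
        obtain ⟨a, ha⟩ := hx
        obtain ⟨b, hb⟩ := hy
        exact ⟨a + b, by rw [TensorProduct.add_tmul, ha, hb]⟩
    rw [← hr]
    have h1 : φ r ⊗ₜ[A] (Submodule.mkQ (m ^ n : Ideal A) 1) = 0 := by
      have e1 := congrArg (φ.toLinearMap.rTensor (A ⧸ (m ^ n : Ideal A))) hr
      rw [LinearMap.rTensor_tmul, AlgHom.toLinearMap_apply] at e1
      rw [e1, ← LinearMap.comp_apply, LinearMap.rTensor_comp_lTensor,
        ← LinearMap.lTensor_comp_rTensor, LinearMap.comp_apply, hy, ← LinearMap.lTensor_comp_apply,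
        LinearMap.subtype_comp_codRestrict, LinearMap.lTensor_comp_apply, ht, map_zero]
    have h2 : φ r ∈ ((m ^ n : Ideal A) • ⊤ : Submodule A C) := by
      have e := TensorProduct.tensorQuotEquivQuotSMul_tmul_mk (m ^ n : Ideal A) (φ r) 1
      rw [one_smul] at e
      have := (congrArg (TensorProduct.tensorQuotEquivQuotSMul C (m ^ n : Ideal A)) h1).trans (map_zero _)
      exact (Submodule.Quotient.mk_eq_zero _).mp (e.symm.trans this)
    rw [Ideal.smul_top_eq_map, Submodule.restrictScalars_mem, Ideal.map_pow] at h2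
    have h3 : r ∈ ((m ^ n : Ideal A) • ⊤ : Submodule A R) := by
      rw [Ideal.smul_top_eq_map, Submodule.restrictScalars_mem, Ideal.map_pow]
      exact hker n r h2
    apply (TensorProduct.tensorQuotEquivQuotSMul R (m ^ n : Ideal A)).injective
    have e := TensorProduct.tensorQuotEquivQuotSMul_tmul_mk (m ^ n : Ideal A) r 1
    rw [one_smul] at e
    exact (e.trans ((Submodule.Quotient.mk_eq_zero _).mpr h3)).trans (map_zero _).symm
  obtain ⟨w, rfl⟩ := (lTensor_exact C hex hπ t).mp hzero
  clear ht hzero
  induction w using TensorProduct.induction_on with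
  | zero => simp
  | add x y hx hy => rw [map_add]; exact add_mem hx hy
  | tmul c x =>
    rw [LinearMap.lTensor_tmul]
    have hx : (x.1 : A) ∈ (m ^ n • ⊤ ⊓ q : Submodule A A) := by
      refine ⟨?_, x.1.2⟩
      have := x.2
      rw [LinearMap.mem_ker] at this
      have h0 : p x.1 = 0 := congrArg Subtype.val this
      rw [smul_eq_mul, Ideal.mul_top]
      exact (Submodule.Quotient.mk_eq_zero _).mp h0
    rw [hk n hkn] at hx
    have key : ∀ a ∈ (m ^ (n - k) • (m ^ k • ⊤ ⊓ q) : Submodule A A), ∀ ha : a ∈ q,
        c ⊗ₜ[A] (⟨a, ha⟩ : q) ∈ (m.map (algebraMap A C)) ^ (n - k) • (⊤ : Submodule C (C ⊗[A] q)) := by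
      intro a ha
      induction ha using Submodule.smul_induction_on' with
      | smul b hb y hy =>
        intro h
        have : (⟨b • y, h⟩ : q) = b • (⟨y, hy.2⟩ : q) := rfl
        rw [this, TensorProduct.tmul_smul, ← IsScalarTower.algebraMap_smul C b]
        refine Submodule.smul_mem_smul ?_ trivial
        rw [← Ideal.map_pow]
        exact Ideal.mem_map_of_mem _ hb
      | add y hy z hz ihy ihz =>
        intro h
        have hy' : y ∈ q := (Submodule.smul_le_right.trans inf_le_right) hy
        have hz' : z ∈ q := (Submodule.smul_le_right.trans inf_le_right) hz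
        have : (⟨y + z, h⟩ : q) = ⟨y, hy'⟩ + ⟨z, hz'⟩ := rfl
        rw [this, TensorProduct.tmul_add]
        exact add_mem (ihy hy') (ihz hz')
    exact key _ hx x.1.2

end Groth.Agent.ResExt
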