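import Groth.Agent.ResExt.Flat

/-! An integral residue field extension is realised by a flat algebra of iterated monogenic
extensions. -/

set_option autoImplicit false
universe u

namespace Groth.Agent.ResExt

open MvPolynomial

variable {A K : Type u} [CommRing A] [IsLocalRing A] [Field K] [Algebra A K]
  [Algebra.IsIntegral A K] [LinearOrder K]

/-- Evaluation of polynomials in variables indexed by `K`. -/
noncomputable abbrev ev : MvPolynomial K A →ₐ[A] K := MvPolynomial.aeval id

/-- Polynomials over the smaller variables, as polynomials. -/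
noncomputable def toP (a : K) :
    Polynomial (supported A (Set.Iio a)) →ₐ[A] MvPolynomial K A :=
  (Polynomial.aeval (X a : MvPolynomial K A)).restrictScalars A

omit [IsLocalRing A] [Algebra A K] [Algebra.IsIntegral A K] in
theorem toP_C (a : K) (c : supported A (Set.Iio a)) : toP a (Polynomial.C c) = (c : MvPolynomial K A) := by
  simp [toP]

omit [IsLocalRing A] [Algebra A K] [Algebra.IsIntegral A K] in
theorem toP_X (a : K) : toP (A := A) a Polynomial.X = X a := by simp [toP]

theorem exists_monic (a : K) :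
    ∃ q : Polynomial (supported A (Set.Iio a)), q.Monic ∧ ev (toP a q) = 0 := by
  obtain ⟨q, hq, hqa⟩ := Algebra.IsIntegral.isIntegral (R := A) a
  refine ⟨q.map (algebraMap A _), hq.map _, ?_⟩
  change ev (Polynomial.aeval (X a) (q.map (algebraMap A (supported A (Set.Iio a))))) = 0
  rw [Polynomial.aeval_map_algebraMap, ← Polynomial.aeval_algHom_apply, aeval_X]
  exact hqa

theorem exists_min (a : K) : ∃ q : Polynomial (supported A (Set.Iio a)), (q.Monic ∧ ev (toP a q) = 0) ∧
    ∀ q' : Polynomial (supported A (Set.Iio a)), q'.Monic → ev (toP a q') = 0 →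
      q.natDegree ≤ q'.natDegree := by
  classical
  have h : ∃ d, ∃ q : Polynomial (supported A (Set.Iio a)), q.Monic ∧ ev (toP a q) = 0 ∧ q.natDegree = d :=
    let ⟨q, h1, h2⟩ := exists_monic a; ⟨_, q, h1, h2, rfl⟩
  obtain ⟨q, h1, h2, h3⟩ := Nat.find_spec h
  exact ⟨q, ⟨h1, h2⟩, fun q' h1' h2' => h3 ▸ Nat.find_min' h ⟨q', h1', h2', rfl⟩⟩

/-- The chosen relation of least degree for `a`, over the smaller elements. -/
noncomputable def relPoly (a : K) : Polynomial (supported A (Set.Iio a)) := (exists_min a).choose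

/-- The chosen relation for `a`. -/
noncomputable def rel (a : K) : MvPolynomial K A := toP a (relPoly a)

theorem relPoly_monic (a : K) : (relPoly (A := A) a).Monic := (exists_min a).choose_spec.1.1

theorem ev_rel (a : K) : ev (rel (A := A) a) = 0 := (exists_min a).choose_spec.1.2

theorem relPoly_min (a : K) (q : Polynomial (supported A (Set.Iio a))) (hq : q.Monic)
    (h : ev (toP a q) = 0) : (relPoly (A := A) a).natDegree ≤ q.natDegree :=
  (exists_min a).choose_spec.2 q hq h

omit [IsLocalRing A] [Algebra A K] [Algebra.IsIntegral A K] in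
theorem mem_range_toP {a : K} {p : MvPolynomial K A} (hp : p ∈ supported A (Set.Iic a)) :
    p ∈ (toP (A := A) a).range := by
  induction hp using Algebra.adjoin_induction with
  | mem x hx =>
    obtain ⟨b, hb, rfl⟩ := hx
    rcases eq_or_lt_of_le (Set.mem_Iic.mp hb) with rfl | hlt
    · exact ⟨Polynomial.X, toP_X _⟩
    · exact ⟨Polynomial.C ⟨X b, Algebra.subset_adjoin ⟨b, hlt, rfl⟩⟩, toP_C _ _⟩
  | algebraMap r => exact Subalgebra.algebraMap_mem _ r
  | add x y _ _ hx hy => exact add_mem hx hy
  | mul x y _ _ hx hy => exact mul_mem hx hy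

theorem exists_inverse (L : Subalgebra A K) (hker : RingHom.ker (algebraMap A K) = IsLocalRing.maximalIdeal A)
    {x : K} (hx : x ∈ L) (hx0 : x ≠ 0) : x⁻¹ ∈ L := by
  classical
  have h : ∃ d, ∃ q : Polynomial A, q.Monic ∧ Polynomial.aeval x q = 0 ∧ q.natDegree = d :=
    let ⟨q, h1, h2⟩ := Algebra.IsIntegral.isIntegral (R := A) x
    ⟨_, q, h1, h2, rfl⟩
  obtain ⟨q, hq, hqx, hqd⟩ := Nat.find_spec h
  have hq1 : q ≠ 1 := fun h1 => by simp [h1] at hqx
  have hpos : 0 < q.natDegree := hq.natDegree_pos.mpr hq1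
  have e := hqx
  rw [← q.divX_mul_X_add, map_add, map_mul, Polynomial.aeval_X, Polynomial.aeval_C] at e
  have hdm : q.divX.Monic := by
    rw [Polynomial.Monic, Polynomial.leadingCoeff, Polynomial.natDegree_divX_eq_natDegree_tsub_one,
      Polynomial.coeff_divX, Nat.sub_add_cancel hpos]
    exact hq
  by_cases hu : IsUnit (q.coeff 0)
  · obtain ⟨v, hv⟩ := hu
    have : x⁻¹ = -(Polynomial.aeval x q.divX) * algebraMap A K (↑v⁻¹) := by
      refine inv_eq_of_mul_eq_one_right ?_
      have e1 : algebraMap A K (q.coeff 0) * algebraMap A K (↑v⁻¹) = 1 := by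
        rw [← map_mul, ← hv, Units.mul_inv, map_one]
      linear_combination (-(algebraMap A K (↑v⁻¹))) * e + e1
    rw [this]
    exact mul_mem (neg_mem (Algebra.adjoin_le (Set.singleton_subset_iff.mpr hx)
      (Polynomial.aeval_mem_adjoin_singleton A x))) (L.algebraMap_mem _)
  · exfalso
    have h0 : algebraMap A K (q.coeff 0) = 0 := by
      rw [← RingHom.mem_ker, hker]
      exact (IsLocalRing.mem_maximalIdeal _).mpr hu
    rw [h0, add_zero, mul_eq_zero, or_iff_left hx0] at e
    have := Nat.find_min' h ⟨q.divX, hdm, e, rfl⟩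
    rw [← hqd, Polynomial.natDegree_divX_eq_natDegree_tsub_one] at this
    omega

/-- The ideal generated by the maximal ideal and all relations. -/
noncomputable def kerIdeal : Ideal (MvPolynomial K A) :=
  (IsLocalRing.maximalIdeal A).map MvPolynomial.C ⊔ Ideal.span (Set.range rel)

theorem coeff_ev_eq_zero (hker : RingHom.ker (algebraMap A K) = IsLocalRing.maximalIdeal A) (a : K)
    (r : Polynomial (supported A (Set.Iio a))) (hdeg : r.degree < (relPoly (A := A) a).degree)
    (hr : ev (toP a r) = 0) (i : ℕ) : ev ((r.coeff i : supported A (Set.Iio a)) : MvPolynomial K A) = 0 := by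
  classical
  let ψ : supported A (Set.Iio a) →ₐ[A] K := (ev (A := A) (K := K)).comp (Subalgebra.val _)
  have heval : ∀ q : Polynomial (supported A (Set.Iio a)), ev (toP a q) = q.eval₂ ψ.toRingHom a := by
    intro q
    induction q using Polynomial.induction_on' with
    | add p q hp hq => simp [hp, hq]
    | monomial n c =>
      rw [← Polynomial.C_mul_X_pow_eq_monomial, map_mul, map_mul, map_pow, map_pow, toP_C, toP_X]
      simp [ψ]
  by_contra hne
  let rbar := r.map ψ.toRingHom
  have hrb0 : rbar ≠ 0 := fun h => hne (by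
    have := congrArg (Polynomial.coeff · i) h
    simpa [rbar, ψ] using this)
  let j := rbar.natDegree
  have hlead : ψ (r.coeff j) ≠ 0 := by
    have := Polynomial.leadingCoeff_ne_zero.mpr hrb0
    rwa [Polynomial.leadingCoeff, Polynomial.coeff_map] at this
  obtain ⟨d, hd⟩ : ∃ d, ψ d = (ψ (r.coeff j))⁻¹ :=
    exists_inverse ψ.range hker ⟨_, rfl⟩ hlead
  let q : Polynomial (supported A (Set.Iio a)) :=
    Polynomial.X ^ j + ∑ k ∈ Finset.range j, Polynomial.monomial k (d * r.coeff k)
  have hsdeg : (∑ k ∈ Finset.range j, Polynomial.monomial k (d * r.coeff k)).degree < (j : ℕ) := by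
    rw [Polynomial.degree_lt_iff_coeff_zero]
    intro m hm
    simp only [Polynomial.finsetSum_coeff, Polynomial.coeff_monomial]
    refine Finset.sum_eq_zero fun k hk => if_neg ?_
    rw [Finset.mem_range] at hk
    omega
  have hmonic : q.Monic := Polynomial.monic_X_pow_add hsdeg
  have hz : ev (toP a q) = 0 := by
    have h1 : rbar.eval a = 0 := by
      rw [Polynomial.eval_map, ← heval, hr]
    rw [Polynomial.eval_eq_sum_range, Finset.sum_range_succ] at h1
    simp only [rbar, Polynomial.coeff_map, AlgHom.toRingHom_eq_coe, RingHom.coe_coe] at h1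
    rw [heval, Polynomial.eval₂_add, Polynomial.eval₂_X_pow, Polynomial.eval₂_finsetSum]
    simp only [Polynomial.eval₂_monomial, AlgHom.toRingHom_eq_coe, RingHom.coe_coe, map_mul, hd,
      mul_assoc]
    rw [← Finset.mul_sum]
    have h2 : (ψ (r.coeff j))⁻¹ * (ψ (r.coeff j) * a ^ j) = a ^ j := by
      rw [← mul_assoc, inv_mul_cancel₀ hlead, one_mul]
    have h1' : ∑ k ∈ Finset.range j, ψ (r.coeff k) * a ^ k + ψ (r.coeff j) * a ^ j = 0 := h1
    rw [← h2, ← mul_add, add_comm, h1', mul_zero]
  have h3 := relPoly_min a q hmonic hz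
  have h4 : q.natDegree ≤ j := Polynomial.natDegree_le_iff_degree_le.mpr
    ((Polynomial.degree_add_le _ _).trans (max_le (Polynomial.degree_X_pow_le _) hsdeg.le))
  have h5 : j ≤ r.natDegree := Polynomial.natDegree_map_le
  have h6 : r ≠ 0 := fun h => by simp [rbar, h] at hrb0
  have h7 := Polynomial.natDegree_lt_natDegree h6 hdeg
  omega

theorem mem_kerIdeal_of_vars (hker : RingHom.ker (algebraMap A K) = IsLocalRing.maximalIdeal A)
    (p : MvPolynomial K A) (hp : ev p = 0)
    (ih : ∀ b ∈ p.vars, ∀ p' ∈ supported A (Set.Iic b), ev p' = 0 → p' ∈ kerIdeal) :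
    p ∈ kerIdeal := by
  classical
  rcases p.vars.eq_empty_or_nonempty with he | hne
  · obtain ⟨c, rfl⟩ : ∃ c, p = MvPolynomial.C c := by
      have : p ∈ supported A (∅ : Set K) := mem_supported.mpr (by simp [he])
      rw [supported_empty, Algebra.mem_bot] at this
      obtain ⟨c, hc⟩ := this
      exact ⟨c, hc.symm⟩
    rw [aeval_C, ← RingHom.mem_ker, hker] at hp
    exact Ideal.mem_sup_left (Ideal.mem_map_of_mem _ hp)
  · refine ih _ (Finset.max'_mem _ hne) p (mem_supported.mpr fun v hv => ?_) hp
    exact Finset.le_max' _ _ hv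

theorem mem_kerIdeal_of_ev_eq_zero [WellFoundedLT K]
    (hker : RingHom.ker (algebraMap A K) = IsLocalRing.maximalIdeal A)
    (p : MvPolynomial K A) (hp : ev p = 0) : p ∈ kerIdeal := by
  suffices H : ∀ a, ∀ p' ∈ supported A (Set.Iic a), ev p' = 0 → p' ∈ kerIdeal from
    mem_kerIdeal_of_vars hker p hp fun b _ => H b
  intro a
  induction a using WellFoundedLT.induction with
  | _ a ih =>
  intro p' hp' hev
  obtain ⟨q, hq⟩ := mem_range_toP hp'
  replace hq : toP a q = p' := hq
  subst hq
  have hdiv := (Polynomial.modByMonic_add_div q (relPoly (A := A) a))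
  rw [← hdiv, map_add, map_mul]
  have hrel : toP a (relPoly (A := A) a) ∈ kerIdeal (A := A) (K := K) :=
    Ideal.mem_sup_right (Ideal.subset_span ⟨a, rfl⟩)
  refine add_mem ?_ (Ideal.mul_mem_right _ _ hrel)
  have hr : ev (toP a (q %ₘ relPoly a)) = 0 := by
    have h := hev
    change ev (toP a q) = 0 at h
    rw [← hdiv, map_add, map_mul, map_add, map_mul] at h
    have h0 : ev (toP a (relPoly (A := A) a)) = 0 := ev_rel a
    rwa [h0, zero_mul, add_zero] at h
  rw [Polynomial.as_sum_range (q %ₘ relPoly a), map_sum]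
  refine sum_mem fun i _ => ?_
  rw [← Polynomial.C_mul_X_pow_eq_monomial, map_mul, toP_C]
  refine Ideal.mul_mem_right _ _ (mem_kerIdeal_of_vars hker _
    (coeff_ev_eq_zero hker a _ (Polynomial.degree_modByMonic_lt q (relPoly_monic a)) hr i)
    fun b hb => ih b ?_)
  exact mem_supported.mp ((q %ₘ relPoly a).coeff i).2 hb

theorem rel_mem_supported (a : K) : rel (A := A) a ∈ supported A (Set.Iic a) := by
  rw [rel, Polynomial.as_sum_range (relPoly a), map_sum]
  refine sum_mem fun i _ => ?_
  rw [← Polynomial.C_mul_X_pow_eq_monomial, map_mul, map_pow, toP_C, toP_X]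
  refine mul_mem (supported_mono Set.Iio_subset_Iic_self (Subtype.coe_prop _)) (pow_mem ?_ _)
  exact Algebra.subset_adjoin ⟨a, Set.self_mem_Iic, rfl⟩

theorem mul_rel_mem (a : K) (G : Set (MvPolynomial K A)) (hG : G ⊆ supported A {b | b ≠ a})
    (g : MvPolynomial K A) (h : g * rel a ∈ Ideal.span G) : g ∈ Ideal.span G := by
  classical
  let B := MvPolynomial {b : K // b ≠ a} A
  let σ : MvPolynomial K A →ₐ[A] B :=
    aeval fun b => if hb : b = a then 0 else X ⟨b, hb⟩
  let e : MvPolynomial K A →ₐ[A] Polynomial B :=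
    aeval fun b => if hb : b = a then Polynomial.X else Polynomial.C (X ⟨b, hb⟩)
  let ε : Polynomial B →ₐ[A] MvPolynomial K A :=
    Polynomial.eval₂AlgHom (rename Subtype.val) (X a) fun _ => Commute.all _ _
  have hεe : ∀ p, ε (e p) = p := fun p => by
    rw [← AlgHom.comp_apply]
    have : ε.comp e = AlgHom.id A _ := by
      refine MvPolynomial.algHom_ext fun b => ?_
      by_cases hb : b = a <;> simp [ε, e, hb]
      exact rename_X _ _
    rw [this, AlgHom.id_apply]
  have hσ : ∀ c ∈ supported A {b | b ≠ a}, e c = Polynomial.C (σ c) := by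
    intro c hc
    induction hc using Algebra.adjoin_induction with
    | mem x hx => obtain ⟨b, hb, rfl⟩ := hx; simp [e, σ, show b ≠ a from hb]
    | algebraMap r => simp [e, σ]
    | add x y _ _ hx hy => simp [hx, hy]
    | mul x y _ _ hx hy => simp [hx, hy]
  have hmonic : (e (rel a)).Monic := by
    have : e (rel a) = (relPoly (A := A) a).map (σ.toRingHom.comp (Subalgebra.val _).toRingHom) := by
      rw [rel]
      induction relPoly (A := A) a using Polynomial.induction_on' with
      | add p q hp hq => simp [hp, hq]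
      | monomial n c =>
        rw [← Polynomial.C_mul_X_pow_eq_monomial, map_mul, map_mul, map_pow, map_pow, toP_C, toP_X,
          hσ _ (supported_mono (fun b (hb : b < a) => ne_of_lt hb) c.2)]
        simp [e]
    rw [this]
    exact (relPoly_monic a).map _
  let J : Ideal B := Ideal.span (σ '' G)
  have h1 : ∀ p ∈ Ideal.span G, (e p).map (Ideal.Quotient.mk J) = 0 := by
    intro p hp
    induction hp using Submodule.span_induction with
    | mem x hx =>
      rw [hσ x (hG hx), Polynomial.map_C, Ideal.Quotient.eq_zero_iff_mem.mpr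
        (Ideal.subset_span (Set.mem_image_of_mem σ hx)), map_zero]
    | zero => simp
    | add x y _ _ hx hy => simp [hx, hy]
    | smul c x _ hx => simp [hx]
  have h2 := h1 _ h
  rw [map_mul, Polynomial.map_mul] at h2
  have h3 : (e g).map (Ideal.Quotient.mk J) = 0 :=
    (hmonic.map (Ideal.Quotient.mk J)).mul_left_eq_zero_iff.mp h2
  rw [← hεe g, (e g).as_sum_range, map_sum]
  refine sum_mem fun i _ => ?_
  have hc : (e g).coeff i ∈ J := by
    rw [← Ideal.Quotient.eq_zero_iff_mem, ← Polynomial.coeff_map, h3, Polynomial.coeff_zero]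
  rw [← Polynomial.C_mul_X_pow_eq_monomial, map_mul]
  refine Ideal.mul_mem_right _ _ ?_
  have : J.map (ε.toRingHom.comp (Polynomial.C : B →+* Polynomial B)) ≤ Ideal.span G := by
    rw [Ideal.map_span, Ideal.span_le]
    rintro _ ⟨_, ⟨x, hx, rfl⟩, rfl⟩
    change ε (Polynomial.C (σ x)) ∈ Ideal.span G
    rw [← hσ x (hG hx), hεe]
    exact Ideal.subset_span hx
  exact this (Ideal.mem_map_of_mem _ hc)

theorem pure_span (q : Ideal A) (F : Finset K) :
    q.map MvPolynomial.C ⊓ Ideal.span (rel '' (F : Set K)) ≤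
      q.map (MvPolynomial.C : A →+* MvPolynomial K A) * Ideal.span (rel '' (F : Set K)) := by
  classical
  induction F using Finset.induction_on_max with
  | empty => simp
  | insert a s hs ih =>
    rintro x ⟨hxq, hxI⟩
    rw [Finset.coe_insert, Set.image_insert_eq] at hxI ⊢
    obtain ⟨g, y, hy, rfl⟩ := Ideal.mem_span_insert.mp hxI
    let Q := q.map (MvPolynomial.C : A →+* MvPolynomial K A)
    let I' := Ideal.span (rel (A := A) '' (s : Set K))
    have hg : g ∈ Q ⊔ I' := by
      have hG : ((MvPolynomial.C : A →+* MvPolynomial K A) '' (q : Set A) ∪ rel '' (s : Set K)) ⊆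
          supported A {b | b ≠ a} := by
        rintro z (⟨c, -, rfl⟩ | ⟨b, hb, rfl⟩)
        · exact Subalgebra.algebraMap_mem _ c
        · exact supported_mono (fun v (hv : v ≤ b) => ne_of_lt (lt_of_le_of_lt hv (hs b hb)))
            (rel_mem_supported b)
      have hspan : Ideal.span ((MvPolynomial.C : A →+* MvPolynomial K A) '' (q : Set A) ∪
          rel '' (s : Set K)) = Q ⊔ I' := by
        rw [Ideal.span_union]; rfl
      have h0 : g * rel a ∈ Q ⊔ I' := by
        have := sub_mem (Ideal.mem_sup_left (T := I') hxq) (Ideal.mem_sup_right (S := Q) hy)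
        rwa [add_sub_cancel_right] at this
      rw [← hspan] at h0 ⊢
      exact mul_rel_mem a _ hG g h0
    obtain ⟨g0, hg0, y', hy', rfl⟩ := Submodule.mem_sup.mp hg
    have h1 : g0 * rel a ∈ Q * Ideal.span (insert (rel a) (rel '' (s : Set K))) :=
      Ideal.mul_mem_mul hg0 (Ideal.subset_span (Set.mem_insert _ _))
    have h2 : y' * rel a + y ∈ Q * I' := by
      refine ih ⟨?_, add_mem (Ideal.mul_mem_right _ _ hy') hy⟩
      have := sub_mem hxq (Ideal.mul_mem_right (rel a) Q hg0)
      rwa [add_mul, add_assoc, add_sub_cancel_left] at this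
    rw [add_mul, add_assoc]
    exact add_mem h1 (Ideal.mul_mono_right (Ideal.span_mono (Set.subset_insert _ _)) h2)

/-- The residue field extension is realised by a flat algebra. -/
theorem exists_flat_surjective [WellFoundedLT K]
    (hker : RingHom.ker (algebraMap A K) = IsLocalRing.maximalIdeal A) :
    ∃ (R : Type u) (_ : CommRing R) (_ : Algebra A R), Module.Flat A R ∧
      ∃ ψ : R →ₐ[A] K, Function.Surjective ψ ∧
        RingHom.ker ψ = (IsLocalRing.maximalIdeal A).map (algebraMap A R) := by
  classical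
  let I : Ideal (MvPolynomial K A) := Ideal.span (Set.range rel)
  have hI : ∀ x ∈ I, ev (A := A) (K := K) x = 0 := by
    intro x hx
    induction hx using Submodule.span_induction with
    | mem x hx => obtain ⟨a, rfl⟩ := hx; exact ev_rel a
    | zero => simp
    | add x y _ _ hx hy => rw [map_add, hx, hy, add_zero]
    | smul c x _ hx => rw [smul_eq_mul, map_mul, hx, mul_zero]
  have hflat : Module.Flat A (MvPolynomial K A ⧸ I.restrictScalars A) := by
    refine flat_quotient_of_forall _ fun q => ?_
    intro x hx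
    obtain ⟨hxq, hxI⟩ := hx
    rw [SetLike.mem_coe, Ideal.smul_top_eq_map, Submodule.restrictScalars_mem] at hxq
    obtain ⟨F, hF⟩ := Submodule.mem_span_finite_of_mem_span (Submodule.restrictScalars_mem A I x |>.mp hxI)
    obtain ⟨hFsub, hxF⟩ := hF
    choose! c hc using fun z (hz : z ∈ F) => hFsub hz
    have hxs : x ∈ Ideal.span (rel '' ((F.image c : Finset K) : Set K)) := by
      refine Ideal.span_mono (fun z hz => ?_) hxF
      exact ⟨c z, Finset.mem_coe.mpr (Finset.mem_image_of_mem c hz), hc z hz⟩
    have := pure_span q (F.image c) ⟨hxq, hxs⟩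
    refine Submodule.mul_induction_on this (fun u hu v hv => ?_) fun u v hu hv => add_mem hu hv
    have hvI : v ∈ I := Ideal.span_mono (Set.image_subset_range _ _) hv
    clear this
    induction hu using Submodule.span_induction generalizing v with
    | mem u hu =>
      obtain ⟨b, hb, rfl⟩ := hu
      rw [← MvPolynomial.smul_eq_C_mul]
      exact Submodule.smul_mem_smul hb hvI
    | zero => simp
    | add u u' _ _ hu hu' => rw [add_mul]; exact add_mem (hu v hv hvI) (hu' v hv hvI)
    | smul d u _ hu =>
      rw [smul_eq_mul, mul_comm d, mul_assoc]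
      exact hu _ (Ideal.mul_mem_left _ d hv) (Ideal.mul_mem_left _ d hvI)
  refine ⟨MvPolynomial K A ⧸ I, inferInstance, inferInstance,
    Module.Flat.of_linearEquiv (Submodule.Quotient.restrictScalarsEquiv A I).symm, ?_⟩
  refine ⟨Ideal.Quotient.liftₐ I ev hI, fun k => ⟨Ideal.Quotient.mk I (X k), aeval_X _ _⟩, ?_⟩
  apply le_antisymm
  · intro x hx
    obtain ⟨p, rfl⟩ := Ideal.Quotient.mk_surjective x
    obtain ⟨u, hu, v, hv, rfl⟩ := Submodule.mem_sup.mp (mem_kerIdeal_of_ev_eq_zero hker p hx)
    rw [map_add, Ideal.Quotient.eq_zero_iff_mem.mpr hv, add_zero]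
    have := Ideal.mem_map_of_mem (Ideal.Quotient.mk I) hu
    rwa [Ideal.map_map] at this
  · rw [Ideal.map_le_iff_le_comap]
    intro c hc
    rw [← hker, RingHom.mem_ker] at hc
    change (Ideal.Quotient.liftₐ I ev hI) (algebraMap A _ c) = 0
    rw [AlgHom.commutes, hc]

end Groth.Agent.ResExt
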